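import Cfsg.Agent.Lib.Comp.Fast

set_option maxRecDepth 100000
set_option Elab.async false

namespace Cfsg.Lib.Comp.Rux

universe u

def iv : ℕ → ℕ := (fun x => look (nat_lit 0xffef7cefae78df6d74cf2c70beeb6caeaa689e69648e28607de75c6da6585d65544d245038f34c28b2091871440c2040) 6 x)

noncomputable def R : List (List ℕ × ℕ) := (apd [([1],1),
 ([2],1),
 ([3],1),
 ([1,2],1),
 ([1,3],1),
 ([2,3],1),
 ([4],1),
 ([5],1),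
 ([1,4],1),
 ([2,4],1),
 ([3,4],1),
 ([1,5],1),
 ([2,5],1),
 ([3,5],1),
 ([4,5],1),
 ([6],3),
 ([4,6,4,7],0),
 ([5,6,5,7],0),
 ([1,2,6,2,7],0),
 ([1,3,5,7,7],0),
 ([8],3),
 ([2,3,8,8],0),
 ([2,8,2,9],0),
 ([2,4,6,9,6,8],0),
 ([10],3),
 ([2,3,11,2,10],0),
 ([2,5,11,4,10],0),
 ([8,11,11],1),
 ([1,6,8,11,6,10],0),
 ([12],1),
 ([1,12],1),
 ([4,12],1),
 ([6,12],1),
 ([10,10,12,10,12,11,12],0),
 ([10,12],3),
 ([2,12],3),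
 ([3,12],3),
 ([5,12],3),
 ([1,10,9,11,12,10,7,11,12],0),
 ([13],1)]
 [([3,13],1),
 ([1,5,13,7,13,6,13],0),
 ([2,13],3),
 ([6,13],3),
 ([1,13],3),
 ([10,13],3),
 ([1,4,8,13,4,9,13,10],0),
 ([5,12,13,12,5,13,12,11,11,13,12,13],0),
 ([14,14,1],0),
 ([15,1,14,1],0),
 ([15,2,14,2],0),
 ([15,3,14,3],0),
 ([15,4,14,4],0),
 ([15,5,14,5],0),
 ([15,6,14,6,4],0),
 ([15,8,14,9,2,1],0),
 ([15,10,14,11],0),
 ([15,12,14,12],0),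
 ([15,13,14,13,10,1],0),
 ([16],1),
 ([1,16],1),
 ([3,16],1),
 ([4,16],1),
 ([5,16],1),
 ([4,8,12,16,12,16,9],0),
 ([4,8,14,16,11,16,10],0),
 ([1,10,6,13,14,7,16,13,6,16,5,13,16],0),
 ([6,7],0),
 ([8,9],0),
 ([10,11],0),
 ([14,15],0)])

def L : List ℕ := [1,2,3,4,5,6,7,8,9,10,11,12,13,14,15,16]

end Cfsg.Lib.Comp.Rux
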