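import Cfsg.Agent.Lib.Comp.Rux.Base

set_option maxRecDepth 100000
set_option Elab.async false

namespace Cfsg.Lib.Comp.Rux

universe u

noncomputable def MuaH0_0_R : List (List ℕ × ℕ) := [([13],1)]

noncomputable def MuaH0_0_n_13 : Net :=
 (Net.cons 1 (nat_lit 0x1)
 Net.nil)

noncomputable def MuaH0_0_n : List Net := [Net.nil,
 Net.nil,
 Net.nil,
 Net.nil,
 Net.nil,
 Net.nil,
 Net.nil,
 Net.nil,
 Net.nil,
 Net.nil,
 Net.nil,
 Net.nil,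
 Net.nil,
 MuaH0_0_n_13]

theorem MuaH0_0_n_ok : NetsOK 2 MuaH0_0_n := netsOK_of (by decide +kernel)

theorem MuaH0_0_n_rel : Rels (gp MuaH0_0_n) MuaH0_0_R := rels_of_relsB (k := 1) MuaH0_0_n_ok (by norm_num) (by decide +kernel)

theorem MuaH0_0_fin : finB 2 MuaH0_0_n [13] 2 (runH 2 MuaH0_0_n (fun x p => ptInv (nth Net.nil MuaH0_0_n x) p) iv MuaH0_0_R [] ([].map fun x => [x]) 0 []
  [0]
  (defsH 2 MuaH0_0_n (ones 34) [13] (Nat.shiftLeft 1 0) 0)) = true := by decide +kernel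

theorem MuaH0_0_idx : Idx.{u} iv (MuaH0_0_R ++ []) ([].map fun x => [x]) [13] 2 :=
  Reach.idx MuaH0_0_n_ok (reach_runH MuaH0_0_n_ok (fun x p _ => ptInv_gp MuaH0_0_n_ok x p) MuaH0_0_n_rel (reach_defsH MuaH0_0_n_ok _ _ _ _ _ _) _ _) MuaH0_0_fin (by norm_num)

end Cfsg.Lib.Comp.Rux
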