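import Cfsg.Agent.Lib.Comp.Rux.Base

set_option maxRecDepth 100000
set_option Elab.async false

namespace Cfsg.Lib.Comp.Rux

universe u

noncomputable def MuaH1_0_R : List (List ℕ × ℕ) := (apd [([1],1),
 ([2],1),
 ([3],1),
 ([1,2],1),
 ([1,3],1),
 ([2,3],1),
 ([4],1),
 ([1,4],1),
 ([2,4],1),
 ([3,4],1),
 ([6],3),
 ([4,6,4,7],0),
 ([1,2,6,2,7],0),
 ([8],3),
 ([2,3,8,8],0),
 ([2,8,2,9],0),
 ([2,4,6,9,6,8],0),
 ([10],3),
 ([2,3,11,2,10],0),
 ([8,11,11],1),
 ([1,6,8,11,6,10],0),
 ([12],1),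
 ([1,12],1),
 ([4,12],1),
 ([6,12],1),
 ([10,10,12,10,12,11,12],0),
 ([10,12],3),
 ([2,12],3),
 ([3,12],3),
 ([1,10,9,11,12,10,7,11,12],0),
 ([14,14,1],0),
 ([15,1,14,1],0),
 ([15,2,14,2],0),
 ([15,3,14,3],0),
 ([15,4,14,4],0),
 ([15,6,14,6,4],0),
 ([15,8,14,9,2,1],0),
 ([15,10,14,11],0),
 ([15,12,14,12],0),
 ([16],1)]
 [([1,16],1),
 ([3,16],1),
 ([4,16],1),
 ([4,8,12,16,12,16,9],0),
 ([4,8,14,16,11,16,10],0),
 ([6,7],0),
 ([8,9],0),
 ([10,11],0),
 ([14,15],0)])

noncomputable def MuaH1_0_n_16 : Net :=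
 (Net.cons 1 (nat_lit 0x1)
 Net.nil)

noncomputable def MuaH1_0_n : List Net := [Net.nil,
 Net.nil,
 Net.nil,
 Net.nil,
 Net.nil,
 Net.nil,
 Net.nil,
 Net.nil,
 Net.nil,
 Net.nil,
 Net.nil,
 Net.nil,
 Net.nil,
 Net.nil,
 Net.nil,
 Net.nil,
 MuaH1_0_n_16]

theorem MuaH1_0_n_ok : NetsOK 2 MuaH1_0_n := netsOK_of (by decide +kernel)

theorem MuaH1_0_n_rel : Rels (gp MuaH1_0_n) MuaH1_0_R := rels_of_relsB (k := 1) MuaH1_0_n_ok (by norm_num) (by decide +kernel)

noncomputable def MuaH1_0_b0h : ℕ := (nat_lit 0x60000010000010000000001000003000800000100000300020000010000010000000002000001000c000003000003000b000003000003000900000300000200070000030000010000000004000003000b00000400000400090000040000020000000004000006000c000006000006000b0000060000060001000006000006000e00000100000600080000020000060009000001000006000c000003000004000600000100000400070000010000030002000001000002)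

noncomputable def MuaH1_0_b0c : List ℕ := [(nat_lit 0x500005702430200004300003900001600000200000500005300d80600003d000049024a0200000100004900070200001400000200001800001600000500004300004500004100003d013a0900000d00003500e20200003700003300003502560300002f000035024e0200000900003502460200000d00002900002500002b00e20400002900002300002b02560300001500002b024e0200002300002700001d00002100001300001400001800001600000901500900001b00001800001901e20300001b00001400001901d80300001b000002000019016603000013000008000014000020000016000020022e06000013000006000001007a0300000000000b00001800000500f803000000000000000000000017)]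

theorem MuaH1_0_fin : finB 2 MuaH1_0_n [1,2,3,4,6,7,8,9,10,11,12,14,15,16] 2 (runH 2 MuaH1_0_n (tbk 1 4 prs1 MuaH1_0_n 2) iv MuaH1_0_R [] ([1,2,3,4,6,7,8,9,10,11,12,14,15].map fun x => [x]) 0 [(fun t => look MuaH1_0_b0h 64 t, MuaH1_0_b0c)]
  [1,5,9,13,17,21,25,29,33,37,41,45,49,156,160,164,168,172,176,188,2,44,80,116,176,192]
  (defsH 2 MuaH1_0_n (ones 34) [16] (Nat.shiftLeft 1 0) 0)) = true := by decide +kernel

theorem MuaH1_0_idx : Idx.{u} iv (MuaH1_0_R ++ []) ([1,2,3,4,6,7,8,9,10,11,12,14,15].map fun x => [x]) [1,2,3,4,6,7,8,9,10,11,12,14,15,16] 2 :=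
  Reach.idx MuaH1_0_n_ok (reach_runH MuaH1_0_n_ok (tbk_eq tr1 (by norm_num) (by norm_num) (by norm_num) MuaH1_0_n_ok) MuaH1_0_n_rel (reach_defsH MuaH1_0_n_ok _ _ _ _ _ _) _ _) MuaH1_0_fin (by norm_num)

end Cfsg.Lib.Comp.Rux
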