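import Cfsg.Agent.Lib.Comp.Rux.Base

set_option maxRecDepth 100000
set_option Elab.async false

namespace Cfsg.Lib.Comp.Rux

universe u

noncomputable def MuaH1_2_R : List (List ℕ × ℕ) := [([1],1),
 ([2],1),
 ([3],1),
 ([1,2],1),
 ([1,3],1),
 ([2,3],1),
 ([4],1),
 ([1,4],1),
 ([2,4],1),
 ([3,4],1),
 ([6],3),
 ([4,6,4,7],0),
 ([1,2,6,2,7],0),
 ([8],3),
 ([2,3,8,8],0),
 ([2,8,2,9],0),
 ([2,4,6,9,6,8],0),
 ([10],3),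
 ([2,3,11,2,10],0),
 ([8,11,11],1),
 ([1,6,8,11,6,10],0),
 ([14,14,1],0),
 ([15,1,14,1],0),
 ([15,2,14,2],0),
 ([15,3,14,3],0),
 ([15,4,14,4],0),
 ([15,6,14,6,4],0),
 ([15,8,14,9,2,1],0),
 ([15,10,14,11],0),
 ([6,7],0),
 ([8,9],0),
 ([10,11],0),
 ([14,15],0)]

noncomputable def MuaH1_2_n_6 : Net :=
 (Net.cons 2 (nat_lit 0x12)
 Net.nil)

noncomputable def MuaH1_2_n_8 : Net :=
 (Net.cons 4 (nat_lit 0x4)
 (Net.cons 2 (nat_lit 0x20)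
 (Net.cons 1 (nat_lit 0x40)
 (Net.cons 2 (nat_lit 0x22)
 (Net.cons 4 (nat_lit 0x4)
 Net.nil)))))

noncomputable def MuaH1_2_n_10 : Net :=
 (Net.cons 4 (nat_lit 0x2)
 (Net.cons 2 (nat_lit 0x22)
 (Net.cons 1 (nat_lit 0x41)
 (Net.cons 2 (nat_lit 0x31)
 (Net.cons 4 (nat_lit 0xc)
 Net.nil)))))

noncomputable def MuaH1_2_n : List Net := [Net.nil,
 Net.nil,
 Net.nil,
 Net.nil,
 Net.nil,
 Net.nil,
 MuaH1_2_n_6,
 Net.rev MuaH1_2_n_6,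
 MuaH1_2_n_8,
 Net.rev MuaH1_2_n_8,
 MuaH1_2_n_10,
 Net.rev MuaH1_2_n_10]

theorem MuaH1_2_n_ok : NetsOK 8 MuaH1_2_n := netsOK_of (by decide +kernel)

theorem MuaH1_2_n_rel : Rels (gp MuaH1_2_n) MuaH1_2_R := rels_of_relsB (k := 3) MuaH1_2_n_ok (by norm_num) (by decide +kernel)

theorem MuaH1_2_fin : finB 8 MuaH1_2_n [1,2,3,4,6,7,8,9,10,11,14,15] 8 (runH 8 MuaH1_2_n (fun x p => ptInv (nth Net.nil MuaH1_2_n x) p) iv MuaH1_2_R [] ([1,2,3,4,6,7,8,9,14,15].map fun x => [x]) 0 []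
  (apd [1,5,9,13,17,21,25,29,33,37,116,120,124,68,72,80,112,116,124,128,48,60,76,84,104,112,120,64,84,108,116,48,56,72,80,108,116,128,48,56,60,64,72,80,112,116,128,48,104,64,80,124,56,68,72,76,80,112,116,120]
 [124,128,48,56,60,64,76,80,112,116,120,56,72,80,104,56])
  (defsH 8 MuaH1_2_n (ones 136) [10,11,6,8,10] (Nat.shiftLeft 1 0) 0)) = true := by decide +kernel

theorem MuaH1_2_idx : Idx.{u} iv (MuaH1_2_R ++ []) ([1,2,3,4,6,7,8,9,14,15].map fun x => [x]) [1,2,3,4,6,7,8,9,10,11,14,15] 8 :=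
  Reach.idx MuaH1_2_n_ok (reach_runH MuaH1_2_n_ok (fun x p _ => ptInv_gp MuaH1_2_n_ok x p) MuaH1_2_n_rel (reach_defsH MuaH1_2_n_ok _ _ _ _ _ _) _ _) MuaH1_2_fin (by norm_num)

end Cfsg.Lib.Comp.Rux
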