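import Cfsg.Agent.Lib.Comp.Rux.Base

set_option maxRecDepth 100000
set_option Elab.async false

namespace Cfsg.Lib.Comp.Rux

universe u

noncomputable def MuaH1_3_R : List (List ℕ × ℕ) := [([1],1),
 ([2],1),
 ([3],1),
 ([1,2],1),
 ([1,3],1),
 ([2,3],1),
 ([4],1),
 ([1,4],1),
 ([2,4],1),
 ([3,4],1),
 ([6],3),
 ([4,6,4,7],0),
 ([1,2,6,2,7],0),
 ([8],3),
 ([2,3,8,8],0),
 ([2,8,2,9],0),
 ([2,4,6,9,6,8],0),
 ([14,14,1],0),
 ([15,1,14,1],0),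
 ([15,2,14,2],0),
 ([15,3,14,3],0),
 ([15,4,14,4],0),
 ([15,6,14,6,4],0),
 ([15,8,14,9,2,1],0),
 ([6,7],0),
 ([8,9],0),
 ([14,15],0)]

noncomputable def MuaH1_3_n : List Net := []

theorem MuaH1_3_n_ok : NetsOK 1 MuaH1_3_n := netsOK_of (by decide +kernel)

theorem MuaH1_3_n_rel : Rels (gp MuaH1_3_n) MuaH1_3_R := rels_of_relsB (k := 1) MuaH1_3_n_ok (by norm_num) (by decide +kernel)

end Cfsg.Lib.Comp.Rux
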