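import Cfsg.Agent.Lib.Comp.Rux.MuaH1_38

set_option maxRecDepth 100000
set_option Elab.async false

namespace Cfsg.Lib.Comp.Rux

universe u

noncomputable def MuaH1_3_K8 : ℕ := (nat_lit 0xc3d6)

theorem MuaH1_3_K8_eq : Nat.beq (runH 1 MuaH1_3_n (fun x p => ptInv (nth Net.nil MuaH1_3_n x) p) iv MuaH1_3_R [] ([1,2,4,6,7,8,9,14,15].map fun x => [x]) 0 []
  [33]
  MuaH1_3_K7) MuaH1_3_K8 = true := by decide +kernel

theorem MuaH1_3_K8_reach : Reach.{u} 1 MuaH1_3_n iv (MuaH1_3_R ++ []) ([1,2,4,6,7,8,9,14,15].map fun x => [x]) 0 MuaH1_3_K8 :=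
  Reach.of_beq (reach_runH MuaH1_3_n_ok (fun x p _ => ptInv_gp MuaH1_3_n_ok x p) MuaH1_3_n_rel MuaH1_3_K7_reach _ _) MuaH1_3_K8_eq

end Cfsg.Lib.Comp.Rux
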