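import Cfsg.Agent.Lib.Comp.Rux.Base

set_option maxRecDepth 100000
set_option Elab.async false

namespace Cfsg.Lib.Comp.Rux

universe u

noncomputable def MuaH1_4_R : List (List ℕ × ℕ) := [([1],1),
 ([2],1),
 ([1,2],1),
 ([4],1),
 ([1,4],1),
 ([2,4],1),
 ([6],3),
 ([4,6,4,7],0),
 ([1,2,6,2,7],0),
 ([8],3),
 ([2,8,2,9],0),
 ([2,4,6,9,6,8],0),
 ([14,14,1],0),
 ([15,1,14,1],0),
 ([15,2,14,2],0),
 ([15,4,14,4],0),
 ([15,6,14,6,4],0),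
 ([15,8,14,9,2,1],0),
 ([6,7],0),
 ([8,9],0),
 ([14,15],0)]

noncomputable def MuaH1_4_n_8 : Net :=
 (Net.cons 2 (nat_lit 0x2)
 (Net.cons 1 (nat_lit 0x1)
 (Net.cons 2 (nat_lit 0x1)
 Net.nil)))

noncomputable def MuaH1_4_n : List Net := [Net.nil,
 Net.nil,
 Net.nil,
 Net.nil,
 Net.nil,
 Net.nil,
 Net.nil,
 Net.nil,
 MuaH1_4_n_8,
 Net.rev MuaH1_4_n_8]

theorem MuaH1_4_n_ok : NetsOK 4 MuaH1_4_n := netsOK_of (by decide +kernel)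

theorem MuaH1_4_n_rel : Rels (gp MuaH1_4_n) MuaH1_4_R := rels_of_relsB (k := 2) MuaH1_4_n_ok (by norm_num) (by decide +kernel)

theorem MuaH1_4_fin : finB 4 MuaH1_4_n [1,2,4,6,7,8,9,14,15] 4 (runH 4 MuaH1_4_n (fun x p => ptInv (nth Net.nil MuaH1_4_n x) p) iv MuaH1_4_R [] ([1,2,4,6,7,14,15].map fun x => [x]) 0 []
  [1,5,9,13,17,21,25,76,36,40,44,68,72,76,80,32,40,48,68,80,48,64,44,64,72,44,64,72]
  (defsH 4 MuaH1_4_n (ones 68) [8,9,8] (Nat.shiftLeft 1 0) 0)) = true := by decide +kernel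

theorem MuaH1_4_idx : Idx.{u} iv (MuaH1_4_R ++ []) ([1,2,4,6,7,14,15].map fun x => [x]) [1,2,4,6,7,8,9,14,15] 4 :=
  Reach.idx MuaH1_4_n_ok (reach_runH MuaH1_4_n_ok (fun x p _ => ptInv_gp MuaH1_4_n_ok x p) MuaH1_4_n_rel (reach_defsH MuaH1_4_n_ok _ _ _ _ _ _) _ _) MuaH1_4_fin (by norm_num)

end Cfsg.Lib.Comp.Rux
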