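import Cfsg.Agent.Lib.Comp.Rux.Base

set_option maxRecDepth 100000
set_option Elab.async false

namespace Cfsg.Lib.Comp.Rux

universe u

noncomputable def MuaH1_5_R : List (List ℕ × ℕ) := [([1],1),
 ([2],1),
 ([1,2],1),
 ([4],1),
 ([1,4],1),
 ([2,4],1),
 ([6],3),
 ([4,6,4,7],0),
 ([1,2,6,2,7],0),
 ([14,14,1],0),
 ([15,1,14,1],0),
 ([15,2,14,2],0),
 ([15,4,14,4],0),
 ([15,6,14,6,4],0),
 ([6,7],0),
 ([14,15],0)]

noncomputable def MuaH1_5_n_2 : Net :=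
 (Net.cons 1 (nat_lit 0x1)
 Net.nil)

noncomputable def MuaH1_5_n : List Net := [Net.nil,
 Net.nil,
 MuaH1_5_n_2]

theorem MuaH1_5_n_ok : NetsOK 2 MuaH1_5_n := netsOK_of (by decide +kernel)

theorem MuaH1_5_n_rel : Rels (gp MuaH1_5_n) MuaH1_5_R := rels_of_relsB (k := 1) MuaH1_5_n_ok (by norm_num) (by decide +kernel)

theorem MuaH1_5_fin : finB 2 MuaH1_5_n [1,2,4,6,7,14,15] 2 (runH 2 MuaH1_5_n (fun x p => ptInv (nth Net.nil MuaH1_5_n x) p) iv MuaH1_5_R [] ([1,4,6,7,14,15].map fun x => [x]) 0 []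
  [1,5,9,13,17,21,4,8,20,32,44]
  (defsH 2 MuaH1_5_n (ones 34) [2] (Nat.shiftLeft 1 0) 0)) = true := by decide +kernel

theorem MuaH1_5_idx : Idx.{u} iv (MuaH1_5_R ++ []) ([1,4,6,7,14,15].map fun x => [x]) [1,2,4,6,7,14,15] 2 :=
  Reach.idx MuaH1_5_n_ok (reach_runH MuaH1_5_n_ok (fun x p _ => ptInv_gp MuaH1_5_n_ok x p) MuaH1_5_n_rel (reach_defsH MuaH1_5_n_ok _ _ _ _ _ _) _ _) MuaH1_5_fin (by norm_num)

end Cfsg.Lib.Comp.Rux
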