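import Cfsg.Agent.Lib.Comp.Rux.Base

set_option maxRecDepth 100000
set_option Elab.async false

namespace Cfsg.Lib.Comp.Rux

universe u

noncomputable def MuaH1_9_R : List (List ℕ × ℕ) := [([1],1)]

noncomputable def MuaH1_9_n_1 : Net :=
 (Net.cons 1 (nat_lit 0x1)
 Net.nil)

noncomputable def MuaH1_9_n : List Net := [Net.nil,
 MuaH1_9_n_1]

theorem MuaH1_9_n_ok : NetsOK 2 MuaH1_9_n := netsOK_of (by decide +kernel)

theorem MuaH1_9_n_rel : Rels (gp MuaH1_9_n) MuaH1_9_R := rels_of_relsB (k := 1) MuaH1_9_n_ok (by norm_num) (by decide +kernel)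

theorem MuaH1_9_fin : finB 2 MuaH1_9_n [1] 2 (runH 2 MuaH1_9_n (fun x p => ptInv (nth Net.nil MuaH1_9_n x) p) iv MuaH1_9_R [] ([].map fun x => [x]) 0 []
  [0]
  (defsH 2 MuaH1_9_n (ones 34) [1] (Nat.shiftLeft 1 0) 0)) = true := by decide +kernel

theorem MuaH1_9_idx : Idx.{u} iv (MuaH1_9_R ++ []) ([].map fun x => [x]) [1] 2 :=
  Reach.idx MuaH1_9_n_ok (reach_runH MuaH1_9_n_ok (fun x p _ => ptInv_gp MuaH1_9_n_ok x p) MuaH1_9_n_rel (reach_defsH MuaH1_9_n_ok _ _ _ _ _ _) _ _) MuaH1_9_fin (by norm_num)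

end Cfsg.Lib.Comp.Rux
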