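import Cfsg.Agent.Lib.Comp.Rux.Base

set_option maxRecDepth 100000
set_option Elab.async false

namespace Cfsg.Lib.Comp.Rux

universe u

noncomputable def MubH0_2_R : List (List ℕ × ℕ) := [([1],1),
 ([2],1),
 ([3],1),
 ([1,2],1),
 ([1,3],1),
 ([2,3],1),
 ([4],1),
 ([5],1),
 ([1,4],1),
 ([2,4],1),
 ([3,4],1),
 ([1,5],1),
 ([2,5],1),
 ([3,5],1),
 ([4,5],1),
 ([6],3),
 ([4,6,4,7],0),
 ([5,6,5,7],0),
 ([1,2,6,2,7],0),
 ([1,3,5,7,7],0),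
 ([8],3),
 ([2,3,8,8],0),
 ([2,8,2,9],0),
 ([2,4,6,9,6,8],0),
 ([6,7],0),
 ([8,9],0)]

noncomputable def MubH0_2_n_8 : Net :=
 (Net.cons 1 (nat_lit 0x1)
 Net.nil)

noncomputable def MubH0_2_n : List Net := [Net.nil,
 Net.nil,
 Net.nil,
 Net.nil,
 Net.nil,
 Net.nil,
 Net.nil,
 Net.nil,
 MubH0_2_n_8,
 Net.rev MubH0_2_n_8]

theorem MubH0_2_n_ok : NetsOK 2 MubH0_2_n := netsOK_of (by decide +kernel)

theorem MubH0_2_n_rel : Rels (gp MubH0_2_n) MubH0_2_R := rels_of_relsB (k := 1) MubH0_2_n_ok (by norm_num) (by decide +kernel)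

theorem MubH0_2_fin : finB 2 MubH0_2_n [1,2,3,4,5,6,7,8,9] 2 (runH 2 MubH0_2_n (fun x p => ptInv (nth Net.nil MubH0_2_n x) p) iv MubH0_2_R [] ([1,2,3,4,5,6,7].map fun x => [x]) 0 []
  [1,5,9,13,17,21,25,84,100,88,92,96,72,84,92,76]
  (defsH 2 MubH0_2_n (ones 34) [8] (Nat.shiftLeft 1 0) 0)) = true := by decide +kernel

theorem MubH0_2_idx : Idx.{u} iv (MubH0_2_R ++ []) ([1,2,3,4,5,6,7].map fun x => [x]) [1,2,3,4,5,6,7,8,9] 2 :=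
  Reach.idx MubH0_2_n_ok (reach_runH MubH0_2_n_ok (fun x p _ => ptInv_gp MubH0_2_n_ok x p) MubH0_2_n_rel (reach_defsH MubH0_2_n_ok _ _ _ _ _ _) _ _) MubH0_2_fin (by norm_num)

end Cfsg.Lib.Comp.Rux
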