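import Cfsg.Agent.Lib.Comp.Rux.Base

set_option maxRecDepth 100000
set_option Elab.async false

namespace Cfsg.Lib.Comp.Rux

universe u

noncomputable def T1_R : List (List ℕ × ℕ) := (apd [([1],1),
 ([2],1),
 ([3],1),
 ([1,2],1),
 ([1,3],1),
 ([2,3],1),
 ([4],1),
 ([5],1),
 ([1,4],1),
 ([2,4],1),
 ([3,4],1),
 ([1,5],1),
 ([2,5],1),
 ([3,5],1),
 ([4,5],1),
 ([6],3),
 ([4,6,4,7],0),
 ([5,6,5,7],0),
 ([1,2,6,2,7],0),
 ([1,3,5,7,7],0),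
 ([8],3),
 ([2,3,8,8],0),
 ([2,8,2,9],0),
 ([2,4,6,9,6,8],0),
 ([10],3),
 ([2,3,11,2,10],0),
 ([2,5,11,4,10],0),
 ([8,11,11],1),
 ([1,6,8,11,6,10],0),
 ([12],1),
 ([1,12],1),
 ([4,12],1),
 ([6,12],1),
 ([10,10,12,10,12,11,12],0),
 ([10,12],3),
 ([2,12],3),
 ([3,12],3),
 ([5,12],3),
 ([1,10,9,11,12,10,7,11,12],0),
 ([13],1)]
 [([3,13],1),
 ([1,5,13,7,13,6,13],0),
 ([2,13],3),
 ([6,13],3),
 ([1,13],3),
 ([10,13],3),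
 ([1,4,8,13,4,9,13,10],0),
 ([5,12,13,12,5,13,12,11,11,13,12,13],0),
 ([14,14,1],0),
 ([15,1,14,1],0),
 ([15,2,14,2],0),
 ([15,3,14,3],0),
 ([15,4,14,4],0),
 ([15,5,14,5],0),
 ([15,6,14,6,4],0),
 ([15,8,14,9,2,1],0),
 ([15,10,14,11],0),
 ([15,12,14,12],0),
 ([15,13,14,13,10,1],0),
 ([6,7],0),
 ([8,9],0),
 ([10,11],0),
 ([14,15],0)])

noncomputable def T1_n_14 : Net :=
 (Net.cons 1 (nat_lit 0x1)
 Net.nil)

noncomputable def T1_n : List Net := [Net.nil,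
 Net.nil,
 Net.nil,
 Net.nil,
 Net.nil,
 Net.nil,
 Net.nil,
 Net.nil,
 Net.nil,
 Net.nil,
 Net.nil,
 Net.nil,
 Net.nil,
 Net.nil,
 T1_n_14,
 Net.rev T1_n_14]

theorem T1_n_ok : NetsOK 2 T1_n := netsOK_of (by decide +kernel)

theorem T1_n_rel : Rels (gp T1_n) T1_R := rels_of_relsB (k := 1) T1_n_ok (by norm_num) (by decide +kernel)

theorem T1_fin : finB 2 T1_n [1,2,3,4,5,6,7,8,9,10,11,12,13,14,15] 2 (runH 2 T1_n (fun x p => ptInv (nth Net.nil T1_n x) p) iv T1_R [] ([1,2,3,4,5,6,7,8,9,10,11,12,13].map fun x => [x]) 0 []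
  [1,5,9,13,17,21,25,29,33,37,41,45,49,192,248,192,200,204,208,212,216,220,224,228,232,236]
  (defsH 2 T1_n (ones 34) [14] (Nat.shiftLeft 1 0) 0)) = true := by decide +kernel

theorem T1_idx : Idx.{u} iv (T1_R ++ []) ([1,2,3,4,5,6,7,8,9,10,11,12,13].map fun x => [x]) [1,2,3,4,5,6,7,8,9,10,11,12,13,14,15] 2 :=
  Reach.idx T1_n_ok (reach_runH T1_n_ok (fun x p _ => ptInv_gp T1_n_ok x p) T1_n_rel (reach_defsH T1_n_ok _ _ _ _ _ _) _ _) T1_fin (by norm_num)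

end Cfsg.Lib.Comp.Rux
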