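import Cfsg.Agent.Lib.Comp.Rux.Base

set_option maxRecDepth 100000
set_option Elab.async false

namespace Cfsg.Lib.Comp.Rux

universe u

noncomputable def T7_R : List (List ℕ × ℕ) := [([1],1),
 ([2],1),
 ([3],1),
 ([1,2],1),
 ([1,3],1),
 ([2,3],1),
 ([4],1),
 ([5],1),
 ([1,4],1),
 ([2,4],1),
 ([3,4],1),
 ([1,5],1),
 ([2,5],1),
 ([3,5],1),
 ([4,5],1)]

noncomputable def T7_n_4 : Net :=
 (Net.cons 1 (nat_lit 0x5)
 Net.nil)

noncomputable def T7_n_5 : Net :=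
 (Net.cons 2 (nat_lit 0x3)
 Net.nil)

noncomputable def T7_n : List Net := [Net.nil,
 Net.nil,
 Net.nil,
 Net.nil,
 T7_n_4,
 T7_n_5]

theorem T7_n_ok : NetsOK 4 T7_n := netsOK_of (by decide +kernel)

theorem T7_n_rel : Rels (gp T7_n) T7_R := rels_of_relsB (k := 2) T7_n_ok (by norm_num) (by decide +kernel)

theorem T7_fin : finB 4 T7_n [1,2,3,4,5] 4 (runH 4 T7_n (fun x p => ptInv (nth Net.nil T7_n x) p) iv T7_R [] ([1,2,3].map fun x => [x]) 0 []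
  [1,5,9,24,28,32,36,40,44,48,52,56]
  (defsH 4 T7_n (ones 68) [4,5] (Nat.shiftLeft 1 0) 0)) = true := by decide +kernel

theorem T7_idx : Idx.{u} iv (T7_R ++ []) ([1,2,3].map fun x => [x]) [1,2,3,4,5] 4 :=
  Reach.idx T7_n_ok (reach_runH T7_n_ok (fun x p _ => ptInv_gp T7_n_ok x p) T7_n_rel (reach_defsH T7_n_ok _ _ _ _ _ _) _ _) T7_fin (by norm_num)

end Cfsg.Lib.Comp.Rux
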