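import Cfsg.Agent.Lib.Comp.Rux.Base

set_option maxRecDepth 100000
set_option Elab.async false

namespace Cfsg.Lib.Comp.Rux

universe u

noncomputable def T8_R : List (List ℕ × ℕ) := [([1],1),
 ([2],1),
 ([3],1),
 ([1,2],1),
 ([1,3],1),
 ([2,3],1)]

noncomputable def T8_n_2 : Net :=
 (Net.cons 1 (nat_lit 0x5)
 Net.nil)

noncomputable def T8_n_3 : Net :=
 (Net.cons 2 (nat_lit 0x3)
 Net.nil)

noncomputable def T8_n : List Net := [Net.nil,
 Net.nil,
 T8_n_2,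
 T8_n_3]

theorem T8_n_ok : NetsOK 4 T8_n := netsOK_of (by decide +kernel)

theorem T8_n_rel : Rels (gp T8_n) T8_R := rels_of_relsB (k := 2) T8_n_ok (by norm_num) (by decide +kernel)

theorem T8_fin : finB 4 T8_n [1,2,3] 4 (runH 4 T8_n (fun x p => ptInv (nth Net.nil T8_n x) p) iv T8_R [] ([1].map fun x => [x]) 0 []
  [1,4,8,12,16,20]
  (defsH 4 T8_n (ones 68) [2,3] (Nat.shiftLeft 1 0) 0)) = true := by decide +kernel

theorem T8_idx : Idx.{u} iv (T8_R ++ []) ([1].map fun x => [x]) [1,2,3] 4 :=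
  Reach.idx T8_n_ok (reach_runH T8_n_ok (fun x p _ => ptInv_gp T8_n_ok x p) T8_n_rel (reach_defsH T8_n_ok _ _ _ _ _ _) _ _) T8_fin (by norm_num)

end Cfsg.Lib.Comp.Rux
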